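import Groth.Agent.S0107
import Groth.Agent.EtFound.StalkSet
import Groth.Agent.EtFound.PullGerm
import Groth.Agent.EtFound.ConstStalk
import Groth.Agent.EtFound.SectionUnr
import Groth.Agent.EtFound.Presentation
import Groth.Prelude.Def_EtCore
import Mathlib.AlgebraicGeometry.Morphisms.Finite
import Mathlib.GroupTheory.Coset.Card

/-! one step of killing a finite locally constant sheaf by constant sheaves -/

universe u

open CategoryTheory CategoryTheory.Limits AlgebraicGeometry Opposite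

namespace Groth.Agent.EtPrimeFilt11

set_option backward.isDefEq.respectTransparency false
set_option backward.isDefEq.respectTransparency.types false

variable {T : Scheme.{u}}

section rep

variable {G : EtCoh.Ab T} {U : T.Etale}
  (e : G.obj ⋙ forget AddCommGrpCat.{u + 1} ≅ yoneda.obj U ⋙ uliftFunctor.{u + 1, u})

/-- the universal section -/
noncomputable def univSec : G.obj.obj (op U) := (e.app (op U)).toEquiv.symm (ULift.up (𝟙 U))

theorem map_univSec {V : T.Etale} (w : V ⟶ U) :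
    G.obj.map w.op (univSec e) = (e.app (op V)).toEquiv.symm (ULift.up w) := by
  refine Eq.trans ?_ (congrArg (fun q => (e.app (op V)).toEquiv.symm q) (ULift.ext _ _ (Category.comp_id w)))
  exact (ConcreteCategory.congr_hom (e.inv.naturality w.op) _).symm

theorem map_univSec_bijective (V : T.Etale) :
    Function.Bijective (fun w : V ⟶ U => G.obj.map w.op (univSec e)) := by
  have h : (fun w : V ⟶ U => G.obj.map w.op (univSec e)) =
      ⇑(Equiv.ulift.symm.trans ((e.app (op V)).toEquiv.symm) : (V ⟶ U) ≃ G.obj.obj (op V)) :=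
    funext fun w => map_univSec e w
  rw [h]
  exact Equiv.bijective _

variable {Ω : Type u} [Field Ω] [IsSepClosed Ω] (ξ : Spec (CommRingCat.of Ω) ⟶ T)

/-- germs of the universal section exhaust the stalk -/
theorem germ_univSec_bijective :
    Function.Bijective (fun w : (Scheme.pointSmallEtale ξ).fiber.obj U =>
      (Scheme.pointSmallEtale ξ).toPresheafFiber U w G.obj (univSec e)) := by
  refine ⟨fun w₁ w₂ h => ?_, fun q => ?_⟩
  · obtain ⟨⟨W, w⟩, ⟨a, ha⟩, ⟨b, hb⟩, -⟩ := IsCofilteredOrEmpty.cone_objs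
      ((Scheme.pointSmallEtale ξ).fiber.elementsMk U w₁) ((Scheme.pointSmallEtale ξ).fiber.elementsMk U w₂)
    have ha' : (Scheme.pointSmallEtale ξ).fiber.map a w = w₁ := ha
    have hb' : (Scheme.pointSmallEtale ξ).fiber.map b w = w₂ := hb
    have h' : (Scheme.pointSmallEtale ξ).toPresheafFiber W w G.obj (G.obj.map a.op (univSec e)) =
        (Scheme.pointSmallEtale ξ).toPresheafFiber W w G.obj (G.obj.map b.op (univSec e)) := by
      refine ((Scheme.pointSmallEtale ξ).toPresheafFiber_w_apply a w G.obj (univSec e)).trans ?_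
      refine Eq.trans ?_ ((Scheme.pointSmallEtale ξ).toPresheafFiber_w_apply b w G.obj (univSec e)).symm
      rw [ha', hb']
      exact h
    obtain ⟨W', c, w', hc, hcc⟩ := ((Scheme.pointSmallEtale ξ).toPresheafFiber_eq_iff' (P := G.obj) W w _ _).1 h'
    rw [← Functor.map_comp_apply, ← Functor.map_comp_apply, ← op_comp, ← op_comp] at hcc
    have hab : c ≫ a = c ≫ b := (map_univSec_bijective e W').1 hcc
    rw [← ha', ← hb', ← hc, ← Functor.map_comp_apply, ← Functor.map_comp_apply, hab]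
  · obtain ⟨V, v, s, rfl⟩ := (Scheme.pointSmallEtale ξ).toPresheafFiber_jointly_surjective (P := G.obj) q
    obtain ⟨a, ha⟩ := (map_univSec_bijective e V).2 s
    exact ⟨(Scheme.pointSmallEtale ξ).fiber.map a v,
      ((Scheme.pointSmallEtale ξ).toPresheafFiber_w_apply a v G.obj (univSec e)).symm.trans
        (congrArg (fun q => (Scheme.pointSmallEtale ξ).toPresheafFiber V v G.obj q) ha)⟩

/-- the fibre of an etale scheme over a geometric point -/
noncomputable def fiberEquiv (V : T.Etale) : (Scheme.pointSmallEtale ξ).fiber.obj V ≃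
    {t : Spec (CommRingCat.of Ω) ⟶ V.left // t ≫ V.hom = ξ} where
  toFun w := ⟨w.left, CategoryTheory.Over.w w⟩
  invFun t := CategoryTheory.Over.homMk t.1 t.2
  left_inv w := by apply CategoryTheory.Over.OverMorphism.ext; rfl
  right_inv t := rfl

/-- the point of the final object -/
noncomputable def topPt : (Scheme.pointSmallEtale ξ).fiber.obj (EtCoh.top T) :=
  (fiberEquiv ξ (EtCoh.top T)).symm ⟨ξ, Category.comp_id ξ⟩

end rep

/-- a nowhere vanishing section gives a monomorphism from `ℤ/ℓ` -/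
theorem exists_mono_of_section {ℓ : ℕ} [Fact ℓ.Prime] {H : EtCoh.Ab T} (hk : EtCoh.KilledBy ℓ H)
    (s : H.obj.obj (op (EtCoh.top T)))
    (hs : ∀ (Ω : Type u) [Field Ω] [IsSepClosed Ω] (ξ : Spec (CommRingCat.of Ω) ⟶ T),
      (Scheme.pointSmallEtale ξ).toPresheafFiber (EtCoh.top T) (topPt ξ) H.obj s ≠ 0) :
    ∃ a : EtCoh.const T (ZMod ℓ) ⟶ H, Mono a := by
  have hz : zmultiplesHom _ s (ℓ : ℤ) = 0 := by
    rw [zmultiplesHom_apply, natCast_zsmul]
    exact hk _ s
  let φ₀ : AddCommGrpCat.of (ULift.{u + 1} (ZMod ℓ)) ⟶ H.obj.obj (op (EtCoh.top T)) :=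
    AddCommGrpCat.ofHom ((ZMod.lift ℓ ⟨zmultiplesHom _ s, hz⟩).comp AddEquiv.ulift.toAddMonoidHom)
  have hφ₀ : φ₀ (ULift.up (1 : ZMod ℓ)) = s := by
    have h := ZMod.lift_coe ℓ ⟨zmultiplesHom _ s, hz⟩ 1
    rw [Int.cast_one] at h
    refine h.trans ?_
    rw [zmultiplesHom_apply, one_zsmul]
  let η₀ : (Functor.const T.Etaleᵒᵖ).obj (AddCommGrpCat.of (ULift.{u + 1} (ZMod ℓ))) ⟶ H.obj :=
    { app := fun W => φ₀ ≫ H.obj.map ((EtCore.topIsTerminal T).from W.unop).op
      naturality := fun W W' g => by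
        refine (Category.id_comp _).trans ?_
        rw [Category.assoc, ← H.obj.map_comp]
        refine congrArg (fun q => φ₀ ≫ H.obj.map q) (Quiver.Hom.unop_inj ?_)
        exact (EtCore.topIsTerminal T).hom_ext _ _ }
  let a : EtCoh.const T (ZMod ℓ) ⟶ H := ⟨sheafifyLift T.smallEtaleTopology η₀ H.property⟩
  refine ⟨a, (EtFound.mono_iff_stalks a).2 fun Ω _ _ ξ => ?_⟩
  let Φ := Scheme.pointSmallEtale ξ
  let ψ : AddCommGrpCat.of (ULift.{u + 1} (ZMod ℓ)) ⟶ (EtCoh.stalk ξ).obj H :=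
    φ₀ ≫ Φ.toPresheafFiber (EtCoh.top T) (topPt ξ) H.obj
  have hψ : Function.Injective ψ := by
    refine (injective_iff_map_eq_zero ψ.hom).2 fun m hm => ?_
    by_contra hm0
    have hm1 : m.down ≠ 0 := fun h => hm0 (ULift.ext _ _ h)
    have h1 : (m.down⁻¹).val • m = ULift.up (1 : ZMod ℓ) := by
      refine ULift.ext _ _ ?_
      change (m.down⁻¹).val • m.down = 1
      rw [nsmul_eq_mul, ZMod.natCast_zmod_val, inv_mul_cancel₀ hm1]
    have h2 : ψ.hom (ULift.up (1 : ZMod ℓ)) = 0 := by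
      rw [← h1, map_nsmul, hm, nsmul_zero]
    refine hs Ω ξ ?_
    rw [← hφ₀]
    exact h2
  intro x y hxy
  obtain ⟨m, rfl⟩ := (EtFound.toSheafify_const_germ_bijective ξ AddCommGrpCat.{u + 1} _ (EtCoh.top T) (topPt ξ)).2 x
  obtain ⟨n, rfl⟩ := (EtFound.toSheafify_const_germ_bijective ξ AddCommGrpCat.{u + 1} _ (EtCoh.top T) (topPt ξ)).2 y
  have key : ∀ c : AddCommGrpCat.of (ULift.{u + 1} (ZMod ℓ)), (EtCoh.stalk ξ).map a
      (Φ.toPresheafFiber (EtCoh.top T) (topPt ξ) (EtCoh.const T (ZMod ℓ)).obj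
        ((toSheafify T.smallEtaleTopology ((Functor.const T.Etaleᵒᵖ).obj
          (AddCommGrpCat.of (ULift.{u + 1} (ZMod ℓ))))).app (op (EtCoh.top T)) c)) = ψ c := by
    intro c
    refine (Φ.toPresheafFiber_naturality_apply a.hom (EtCoh.top T) (topPt ξ) _).trans ?_
    refine congrArg (fun q => Φ.toPresheafFiber (EtCoh.top T) (topPt ξ) H.obj q) ?_
    refine (ConcreteCategory.comp_apply _ _ _).symm.trans ?_
    have h := congrArg (fun (q : (Functor.const T.Etaleᵒᵖ).obj (AddCommGrpCat.of (ULift.{u + 1} (ZMod ℓ))) ⟶ H.obj) =>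
      q.app (op (EtCoh.top T)))
      (toSheafify_sheafifyLift T.smallEtaleTopology η₀ H.property)
    refine (ConcreteCategory.congr_hom h c).trans ?_
    have he : (EtCore.topIsTerminal T).from (EtCoh.top T) = 𝟙 _ := (EtCore.topIsTerminal T).hom_ext _ _
    show (φ₀ ≫ H.obj.map ((EtCore.topIsTerminal T).from (EtCoh.top T)).op) c = φ₀ c
    rw [he, op_id, H.obj.map_id, Category.comp_id]
  refine congrArg (fun m => Φ.toPresheafFiber (EtCoh.top T) (topPt ξ) (EtCoh.const T (ZMod ℓ)).obj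
    ((toSheafify T.smallEtaleTopology ((Functor.const T.Etaleᵒᵖ).obj
      (AddCommGrpCat.of (ULift.{u + 1} (ZMod ℓ))))).app (op (EtCoh.top T)) m)) (hψ ?_)
  exact (key m).symm.trans (hxy.trans (key n))

/-- finite constant sheaves are finite locally constant -/
theorem isFiniteLocallyConstant_const (M : Type) [AddCommGroup M] [Finite M] :
    EtCoh.IsFiniteLocallyConstant (EtCoh.const T M) := by
  haveI : Finite (AddCommGrpCat.of (ULift.{u + 1} M)) := inferInstanceAs (Finite (ULift.{u + 1} M))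
  refine (EtFound.isFiniteLocallyConstant_iff _).2 fun x => ⟨EtCoh.top T, x, rfl, _,
    EtFound.finConst_range (M := AddCommGrpCat.of (ULift.{u + 1} M)) (φ := (toSheafify T.smallEtaleTopology ((Functor.const T.Etaleᵒᵖ).obj
      (AddCommGrpCat.of (ULift.{u + 1} M)))).app (op (EtCoh.top T))) ?_⟩
  intro Ω _ _ ξ z
  exact EtFound.toSheafify_const_germ_bijective ξ AddCommGrpCat.{u + 1} _ (EtCoh.top T) z

theorem killedBy_pull {X : Scheme.{u}} (g : X ⟶ T) {n : ℕ} {G : EtCoh.Ab T} (h : EtCoh.KilledBy n G) :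
    EtCoh.KilledBy n ((EtCoh.pull g).obj G) := by
  rw [EtFound.killedBy_iff_nsmul] at h ⊢
  rw [← (EtCoh.pull g).map_id, ← Functor.map_nsmul, h, Functor.map_zero]

theorem killedBy_of_epi {n : ℕ} {G G' : EtCoh.Ab T} (p : G ⟶ G') [Epi p] (h : EtCoh.KilledBy n G) :
    EtCoh.KilledBy n G' := by
  rw [EtFound.killedBy_iff_nsmul] at h ⊢
  rw [← cancel_epi p, Preadditive.comp_nsmul, comp_zero, Category.comp_id,
    ← Category.id_comp p, ← Preadditive.nsmul_comp, h, zero_comp]

theorem natCard_X₂ {S : ShortComplex AddCommGrpCat.{u + 1}} (hS : S.ShortExact) :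
    Nat.card S.X₂ = Nat.card S.X₁ * Nat.card S.X₃ := by
  have hinj := hS.ab_injective_f
  have hsur := hS.ab_surjective_g
  have hex := ShortComplex.ab_exact_iff_range_eq_ker.1 hS.exact
  rw [AddSubgroup.card_eq_card_quotient_mul_card_addSubgroup S.g.hom.ker, mul_comm,
    Nat.card_congr (QuotientAddGroup.quotientKerEquivOfSurjective S.g.hom hsur).toEquiv, ← hex]
  refine congrArg (fun q => q * Nat.card S.X₃) ?_
  exact (Nat.card_congr (AddMonoidHom.ofInjective hinj).toEquiv).symm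

theorem natCard_const_stalk (ℓ : ℕ) {Ω : Type u} [Field Ω] [IsSepClosed Ω] (ξ : Spec (CommRingCat.of Ω) ⟶ T) :
    Nat.card ((EtCoh.stalk ξ).obj (EtCoh.const T (ZMod ℓ))) = ℓ :=
  (Nat.card_congr (Equiv.ofBijective _
    (EtFound.toSheafify_const_germ_bijective ξ AddCommGrpCat.{u + 1}
      (AddCommGrpCat.of (ULift.{u + 1} (ZMod ℓ))) (EtCoh.top T) (topPt ξ)))).symm.trans
    ((Nat.card_congr Equiv.ulift).trans (Nat.card_zmod ℓ))

/-- the finite etale cover on which a sheaf acquires a nowhere vanishing section -/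
theorem exists_step {ℓ : ℕ} [Fact ℓ.Prime] {m : ℕ} {G : EtCoh.Ab T} (hG : EtCoh.IsFiniteLocallyConstant G)
    (hk : EtCoh.KilledBy ℓ G)
    (hc : ∀ (Ω : Type u) [Field Ω] [IsSepClosed Ω] (ξ : Spec (CommRingCat.of Ω) ⟶ T),
      Nat.card ((EtCoh.stalk ξ).obj G) = ℓ ^ (m + 1)) :
    ∃ (T' : Scheme.{u}) (g : T' ⟶ T) (_ : IsFinite g) (_ : AlgebraicGeometry.Etale g) (d : ℕ), ℓ.Coprime d ∧
      (∀ (Ω : Type u) [Field Ω] [IsAlgClosed Ω] (η : Spec (CommRingCat.of Ω) ⟶ T),
        Nat.card {t : Spec (CommRingCat.of Ω) ⟶ T' // t ≫ g = η} = d) ∧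
      ∃ a : EtCoh.const T' (ZMod ℓ) ⟶ (EtCoh.pull g).obj G, Mono a := by
  obtain ⟨U, hfin, ⟨e⟩⟩ := S0107.result G hG
  have : AlgebraicGeometry.Etale U.hom := U.prop
  obtain ⟨z, hz⟩ := (map_univSec_bijective e (EtCoh.top T)).2 0
  have hzs : z.left ≫ U.hom = 𝟙 T := CategoryTheory.Over.w z.toCommaMorphism
  have hoz : IsOpenImmersion z.left := EtFound.isOpenImmersion_section U.hom z.left hzs
  have hcl : IsClosed (Set.range z.left.base) := EtFound.isClosed_range_section U.hom z.left hzs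
  let O : U.left.Opens := ⟨(Set.range z.left.base)ᶜ, hcl.isOpen_compl⟩
  have : IsClosedImmersion O.ι := IsClosedImmersion.of_isPreimmersion O.ι (by
    rw [Scheme.Opens.range_ι]
    exact (z.left.isOpenEmbedding.isOpen_range).isClosed_compl)
  have hmem : ∀ {Ω : Type u} [Field Ω] (t : Spec (CommRingCat.of Ω) ⟶ U.left),
      (∃ l : Spec (CommRingCat.of Ω) ⟶ O.toScheme, l ≫ O.ι = t) ↔ t ≠ (t ≫ U.hom) ≫ z.left := by
    intro Ω _ t
    refine ⟨?_, fun ht => ?_⟩
    · rintro ⟨l, rfl⟩ h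
      have h1 : O.ι.base (l.base (default : Spec (CommRingCat.of Ω))) ∈ Set.range z.left.base := by
        refine ⟨((l ≫ O.ι) ≫ U.hom).base (default : Spec (CommRingCat.of Ω)), ?_⟩
        have := congrArg (fun q : Spec (CommRingCat.of Ω) ⟶ U.left => q.base (default : Spec (CommRingCat.of Ω))) h
        exact ((Scheme.Hom.comp_apply _ _ _).symm.trans this.symm).trans (Scheme.Hom.comp_apply _ _ _)
      exact (l.base (default : Spec (CommRingCat.of Ω))).2 h1
    · refine ⟨IsOpenImmersion.lift O.ι t ?_, IsOpenImmersion.lift_fac _ _ _⟩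
      rw [Scheme.Opens.range_ι]
      rintro _ ⟨p, rfl⟩ hp
      have hr : Set.range t.base ⊆ Set.range z.left.base := by
        rintro _ ⟨q, rfl⟩
        rw [Subsingleton.elim (α := Spec (CommRingCat.of Ω)) q p]
        exact hp
      have hl := IsOpenImmersion.lift_fac z.left t hr
      have hh : t ≫ U.hom = IsOpenImmersion.lift z.left t hr :=
        (congrArg (fun q => q ≫ U.hom) hl.symm).trans ((Category.assoc _ _ _).trans
          ((congrArg (fun q => IsOpenImmersion.lift z.left t hr ≫ q) hzs).trans (Category.comp_id _)))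
      exact ht (hl.symm.trans (congrArg (fun q => q ≫ z.left) hh.symm))
  let g : O.toScheme ⟶ T := O.ι ≫ U.hom
  have : IsFinite g := inferInstanceAs (IsFinite (O.ι ≫ U.hom))
  have : AlgebraicGeometry.Etale g := inferInstanceAs (AlgebraicGeometry.Etale (O.ι ≫ U.hom))
  have hℓ : ℓ.Prime := Fact.out
  refine ⟨O.toScheme, g, inferInstance, inferInstance, ℓ ^ (m + 1) - 1, ?_, ?_, ?_⟩
  · refine hℓ.coprime_iff_not_dvd.2 fun hd => ?_
    have h1 : 1 ≤ ℓ ^ (m + 1) := Nat.one_le_pow _ _ hℓ.pos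
    have h2 := Nat.dvd_sub (dvd_pow_self ℓ (Nat.succ_ne_zero m)) hd
    rw [Nat.sub_sub_self h1] at h2
    exact hℓ.ne_one (Nat.dvd_one.1 h2)
  · intro Ω _ _ η
    let α := {t : Spec (CommRingCat.of Ω) ⟶ U.left // t ≫ U.hom = η}
    have hα : Nat.card α = ℓ ^ (m + 1) :=
      (Nat.card_congr ((fiberEquiv η U).symm.trans (Equiv.ofBijective _ (germ_univSec_bijective e η)))).trans
        (hc Ω η)
    have : Finite α := Nat.finite_of_card_ne_zero (by rw [hα]; exact (Nat.pow_pos hℓ.pos).ne')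
    let w₀ : α := ⟨η ≫ z.left, by rw [Category.assoc, hzs, Category.comp_id]⟩
    let E : {t : Spec (CommRingCat.of Ω) ⟶ O.toScheme // t ≫ g = η} → {w : α // w ≠ w₀} := fun t =>
      ⟨⟨t.1 ≫ O.ι, (Category.assoc _ _ _).trans t.2⟩, fun h => by
        have h' : t.1 ≫ O.ι = η ≫ z.left := congrArg Subtype.val h
        refine (hmem (t.1 ≫ O.ι)).1 ⟨t.1, rfl⟩ ?_
        rw [Category.assoc t.1 O.ι U.hom]
        exact h'.trans (congrArg (fun q => q ≫ z.left) t.2.symm)⟩
    have hE : Function.Bijective E := by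
      refine ⟨fun t t' h => Subtype.ext ((cancel_mono O.ι).1 (congrArg (fun q => q.1.1) h)), fun ⟨⟨w, hw⟩, hne⟩ => ?_⟩
      obtain ⟨l, hl⟩ := (hmem w).2 fun h => hne (Subtype.ext (by rw [hw] at h; exact h))
      exact ⟨⟨l, by rw [← Category.assoc, hl, hw]⟩, Subtype.ext (Subtype.ext hl)⟩
    classical
    have h3 : Nat.card α = Nat.card {w : α // w ≠ w₀} + 1 :=
      (Nat.card_congr (Equiv.optionSubtypeNe w₀).symm).trans Finite.card_option
    rw [Nat.card_congr (Equiv.ofBijective E hE)]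
    omega
  · let δ : EtCoh.top O.toScheme ⟶ (EtCoh.bc g).obj U :=
      MorphismProperty.Over.homMk (pullback.lift O.ι (𝟙 _) (Category.id_comp g).symm) (pullback.lift_snd _ _ _) trivial
    refine exists_mono_of_section (killedBy_pull g hk) (((EtCoh.pull g).obj G).obj.map δ.op
      (((EtCoh.pullPushAdj g).unit.app G).hom.app (op U) (univSec e))) fun Ω _ _ ξ h0 => ?_
    let t := (Scheme.pointSmallEtale ξ).fiber.map δ (topPt ξ)
    have h1 : (Scheme.pointSmallEtale ξ).toPresheafFiber ((EtCoh.bc g).obj U) t ((EtCoh.pull g).obj G).obj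
        (((EtCoh.pullPushAdj g).unit.app G).hom.app (op U) (univSec e)) =
      (Scheme.pointSmallEtale ξ).toPresheafFiber ((EtCoh.bc g).obj U) t ((EtCoh.pull g).obj G).obj
        (((EtCoh.pullPushAdj g).unit.app G).hom.app (op U) 0) := by
      rw [map_zero, map_zero]
      exact ((Scheme.pointSmallEtale ξ).toPresheafFiber_w_apply δ (topPt ξ) ((EtCoh.pull g).obj G).obj _).symm.trans h0
    have h2 := (EtFound.germ_unit_eq_iff g ξ G U t (univSec e) 0).1 h1
    let w₀ := (Scheme.pointSmallEtale (ξ ≫ g)).fiber.map z (topPt (ξ ≫ g))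
    have h3 : (Scheme.pointSmallEtale (ξ ≫ g)).toPresheafFiber U w₀ G.obj (univSec e) = 0 := by
      refine ((Scheme.pointSmallEtale (ξ ≫ g)).toPresheafFiber_w_apply z (topPt (ξ ≫ g)) G.obj (univSec e)).symm.trans ?_
      rw [show G.obj.map z.op (univSec e) = 0 from hz, map_zero]
    have h4 := (germ_univSec_bijective e (ξ ≫ g)).1
      ((h2.trans (map_zero _)).trans h3.symm)
    have h5 : ξ ≫ O.ι = (ξ ≫ g) ≫ z.left := by
      have h6 := congrArg (fun q => (fiberEquiv (ξ ≫ g) U q).1) h4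
      refine Eq.trans ?_ h6
      refine Eq.trans ?_ (Category.assoc _ _ _).symm
      exact congrArg (ξ ≫ ·) (pullback.lift_fst _ _ _).symm
    refine (hmem (ξ ≫ O.ι)).1 ⟨ξ, rfl⟩ ?_
    rw [Category.assoc ξ O.ι U.hom]
    exact h5

end Groth.Agent.EtPrimeFilt11
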