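import Groth.Agent.EtPrimeFilt11.Seq
import Groth.Agent.EtPrimeFilt11.Step
import Mathlib.FieldTheory.Finiteness

/-! finite etale covers of degree prime to `ℓ` trivialising successive quotients -/

universe u

open CategoryTheory CategoryTheory.Limits AlgebraicGeometry Opposite

namespace Groth.Agent.EtPrimeFilt11

set_option backward.isDefEq.respectTransparency false
set_option backward.isDefEq.respectTransparency.types false

variable {ℓ : ℕ} [Fact ℓ.Prime]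

/-- degrees multiply in towers -/
theorem natCard_comp {Ω : Type u} [Field Ω] {T₂ T₁ T : Scheme.{u}} (h : T₂ ⟶ T₁) (g : T₁ ⟶ T)
    {d₁ d₂ : ℕ} (η : Spec (CommRingCat.of Ω) ⟶ T) (hd₁ : d₁ ≠ 0) (hd₂ : d₂ ≠ 0)
    (h₁ : Nat.card {t : Spec (CommRingCat.of Ω) ⟶ T₁ // t ≫ g = η} = d₁)
    (h₂ : ∀ s : Spec (CommRingCat.of Ω) ⟶ T₁, Nat.card {t : Spec (CommRingCat.of Ω) ⟶ T₂ // t ≫ h = s} = d₂) :
    Nat.card {t : Spec (CommRingCat.of Ω) ⟶ T₂ // t ≫ h ≫ g = η} = d₁ * d₂ := by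
  let e : {t : Spec (CommRingCat.of Ω) ⟶ T₂ // t ≫ h ≫ g = η} ≃
      Σ s : {s : Spec (CommRingCat.of Ω) ⟶ T₁ // s ≫ g = η}, {t : Spec (CommRingCat.of Ω) ⟶ T₂ // t ≫ h = s.1} :=
    { toFun := fun t => ⟨⟨t.1 ≫ h, (Category.assoc _ _ _).trans t.2⟩, ⟨t.1, rfl⟩⟩
      invFun := fun p => ⟨p.2.1, by rw [← Category.assoc, p.2.2]; exact p.1.2⟩
      left_inv := fun t => rfl
      right_inv := fun p => by
        obtain ⟨⟨s, hs⟩, ⟨t, ht⟩⟩ := p
        change t ≫ h = s at ht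
        subst ht
        rfl }
  have : Finite {s : Spec (CommRingCat.of Ω) ⟶ T₁ // s ≫ g = η} :=
    Nat.finite_of_card_ne_zero (by rw [h₁]; exact hd₁)
  have : ∀ s : Spec (CommRingCat.of Ω) ⟶ T₁, Finite {t : Spec (CommRingCat.of Ω) ⟶ T₂ // t ≫ h = s} := fun s =>
    Nat.finite_of_card_ne_zero (by rw [h₂ s]; exact hd₂)
  have : Fintype {s : Spec (CommRingCat.of Ω) ⟶ T₁ // s ≫ g = η} := Fintype.ofFinite _
  rw [Nat.card_congr e, Nat.card_sigma, Finset.sum_congr rfl (fun s _ => h₂ s.1), Finset.sum_const,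
    Finset.card_univ, ← Nat.card_eq_fintype_card, h₁, smul_eq_mul]

/-- induction on the rank -/
theorem exists_cover_iterExt (m : ℕ) : ∀ {T : Scheme.{u}} {G : EtCoh.Ab T}, EtCoh.IsFiniteLocallyConstant G →
    EtCoh.KilledBy ℓ G →
    (∀ (Ω : Type u) [Field Ω] [IsSepClosed Ω] (ξ : Spec (CommRingCat.of Ω) ⟶ T),
      Nat.card ((EtCoh.stalk ξ).obj G) = ℓ ^ m) →
    ∃ (T' : Scheme.{u}) (f : T' ⟶ T) (_ : IsFinite f) (_ : AlgebraicGeometry.Etale f) (d : ℕ), ℓ.Coprime d ∧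
      (∀ (Ω : Type u) [Field Ω] [IsAlgClosed Ω] (η : Spec (CommRingCat.of Ω) ⟶ T),
        Nat.card {t : Spec (CommRingCat.of Ω) ⟶ T' // t ≫ f = η} = d) ∧
      IterExt (EtCoh.const T' (ZMod ℓ)) m ((EtCoh.pull f).obj G) := by
  induction m with
  | zero =>
    intro T G _ _ hc
    refine ⟨T, 𝟙 T, inferInstance, inferInstance, 1, Nat.coprime_one_right ℓ, fun Ω _ _ η => ?_, ?_⟩
    · have : Unique {t : Spec (CommRingCat.of Ω) ⟶ T // t ≫ 𝟙 T = η} :=
        { default := ⟨η, Category.comp_id η⟩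
          uniq := fun t => Subtype.ext ((Category.comp_id _).symm.trans t.2) }
      exact Nat.card_unique
    · refine (EtCoh.pull (𝟙 T)).map_isZero ((EtFound.isZero_iff_stalks G).2 fun Ω _ _ ξ => ?_)
      have h1 := hc Ω ξ
      rw [pow_zero] at h1
      have := (Nat.card_eq_one_iff_unique.1 h1).1
      exact AddCommGrpCat.isZero_of_subsingleton _
  | succ m ih =>
    intro T G hG hk hc
    have hℓ : ℓ.Prime := Fact.out
    have : NeZero ℓ := ⟨hℓ.ne_zero⟩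
    obtain ⟨T₁, g, hg, hg', d₁, hd₁, hdeg₁, a, ha⟩ := exists_step hG hk hc
    let S : ShortComplex (EtCoh.Ab T₁) := ShortComplex.mk a (cokernel.π a) (cokernel.condition a)
    have hS : S.ShortExact :=
      { exact := ShortComplex.exact_of_g_is_cokernel S (cokernelIsCokernel a)
        mono_f := ha
        epi_g := inferInstanceAs (Epi (cokernel.π a)) }
    have hGp := EtFound.isFiniteLocallyConstant_pull g hG
    have : Epi S.g := hS.epi_g
    have hC : EtCoh.IsFiniteLocallyConstant S.X₃ :=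
      EtFound.isFiniteLocallyConstant_of_cokernel hS.exact (isFiniteLocallyConstant_const (ZMod ℓ)) hGp
    have hkC : EtCoh.KilledBy ℓ S.X₃ := killedBy_of_epi S.g (killedBy_pull g hk)
    have hcC : ∀ (Ω : Type u) [Field Ω] [IsSepClosed Ω] (ξ : Spec (CommRingCat.of Ω) ⟶ T₁),
        Nat.card ((EtCoh.stalk ξ).obj S.X₃) = ℓ ^ m := fun Ω _ _ ξ => by
      have h1 := natCard_X₂ (hS.map_of_exact (EtCoh.stalk ξ))
      have h2 : Nat.card ((EtCoh.stalk ξ).obj ((EtCoh.pull g).obj G)) = ℓ ^ (m + 1) :=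
        (Nat.card_congr ((EtFound.stalkPullIso g ξ).app G).addCommGroupIsoToAddEquiv.toEquiv).trans (hc Ω (ξ ≫ g))
      have h3 : Nat.card ((EtCoh.stalk ξ).obj S.X₁) = ℓ := natCard_const_stalk ℓ ξ
      change Nat.card ((EtCoh.stalk ξ).obj S.X₂) =
        Nat.card ((EtCoh.stalk ξ).obj S.X₁) * Nat.card ((EtCoh.stalk ξ).obj S.X₃) at h1
      rw [h2, h3, pow_succ'] at h1
      exact (Nat.eq_of_mul_eq_mul_left hℓ.pos h1).symm
    obtain ⟨T₂, h, hh, hh', d₂, hd₂, hdeg₂, hfil⟩ := ih hC hkC hcC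
    refine ⟨T₂, h ≫ g, inferInstance, inferInstance, d₁ * d₂, hd₁.mul_right hd₂, fun Ω _ _ η => ?_, ?_⟩
    · refine natCard_comp h g η ?_ ?_ (hdeg₁ Ω η) (fun s => hdeg₂ Ω s)
      · rintro rfl
        exact hℓ.ne_one ((Nat.coprime_zero_right ℓ).1 hd₁)
      · rintro rfl
        exact hℓ.ne_one ((Nat.coprime_zero_right ℓ).1 hd₂)
    · have := EtFound.pull_preservesFiniteLimits h
      exact ((hfil.of_iso (Iso.refl _)).of_shortExact (S := S.map (EtCoh.pull h)) (hS.map_of_exact _)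
        (EtCore.pullConst h (ZMod ℓ))).of_iso ((EtFound.pullCompAb h g).app G).symm

/-- on a connected scheme the order of the stalks of a finite locally constant `ℓ`-torsion sheaf is a
constant power of `ℓ` -/
theorem exists_natCard_stalk {S : Scheme.{u}} [ConnectedSpace S] {F : EtCoh.Ab S}
    (hF : EtCoh.IsFiniteLocallyConstant F) (hℓ : EtCoh.KilledBy ℓ F) :
    ∃ r, ∀ (Ω : Type u) [Field Ω] [IsSepClosed Ω] (ξ : Spec (CommRingCat.of Ω) ⟶ S),
      Nat.card ((EtCoh.stalk ξ).obj F) = ℓ ^ r := by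
  obtain ⟨x₀⟩ : Nonempty S := inferInstance
  obtain ⟨U, p, hp, R, hR⟩ := (EtFound.isFiniteLocallyConstant_iff F).1 hF x₀
  obtain ⟨Ω₀, _, _, ξ₀, z, hz⟩ := EtFound.exists_algClosed_point U p
  have := hR.1
  have hkill : ∀ q : (EtCoh.stalk ξ₀).obj F, ℓ • q = 0 := fun q => by
    obtain ⟨⟨s, hs⟩, rfl⟩ := (hR.2 Ω₀ ξ₀ z).2 q
    show ℓ • ((Scheme.pointSmallEtale ξ₀).toPresheafFiber U z F.obj).hom s = 0
    rw [← map_nsmul, show ℓ • s = 0 from hℓ U s, map_zero]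
  letI : Module (ZMod ℓ) ((EtCoh.stalk ξ₀).obj F) := AddCommGroup.zmodModule hkill
  have : Finite ((EtCoh.stalk ξ₀).obj F) := Finite.of_surjective _ (hR.2 Ω₀ ξ₀ z).2
  let r := Module.finrank (ZMod ℓ) ((EtCoh.stalk ξ₀).obj F)
  have h0 : Nat.card ((EtCoh.stalk ξ₀).obj F) = ℓ ^ r :=
    by
      haveI : Fintype ((EtCoh.stalk ξ₀).obj F) := Fintype.ofFinite _
      rw [Nat.card_eq_fintype_card, Module.card_eq_pow_finrank (K := ZMod ℓ), ZMod.card]
  let P : Type (u + 1) → Prop := fun A => Nat.card A = ℓ ^ r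
  have hP : ∀ A B : Type (u + 1), Nonempty (A ≃ B) → P A → P B := fun A B ⟨e⟩ h =>
    (Nat.card_congr e).symm.trans h
  have hP' : ∀ A B : Type (u + 1), Nonempty (A ≃ B) → ¬ P A → ¬ P B := fun A B e h h' =>
    h (hP _ _ (e.map Equiv.symm) h')
  have hclopen : IsClopen (EtFound.stalkSet F P) :=
    ⟨⟨by rw [EtFound.compl_stalkSet hP]; exact EtFound.isOpen_stalkSet hF hP'⟩, EtFound.isOpen_stalkSet hF hP⟩
  have huniv := hclopen.eq_univ ⟨_, (EtFound.mem_stalkSet_iff hP ξ₀).2 h0⟩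
  exact ⟨r, fun Ω _ _ ξ => (EtFound.mem_stalkSet_iff hP ξ).1 (by rw [huniv]; trivial)⟩

end Groth.Agent.EtPrimeFilt11
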