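import Mathlib.CategoryTheory.Abelian.Basic
import Mathlib.Algebra.Homology.ShortComplex.Abelian
import Mathlib.Algebra.Homology.ShortComplex.ShortExact

/-! filtrations with constant successive quotient in an abelian category -/

universe v u

open CategoryTheory CategoryTheory.Limits ZeroObject

namespace Groth.Agent.EtPrimeFilt11

variable {A : Type u} [Category.{v} A] [Abelian A] (K : A)

/-- `H` is an iterated extension, `n` times, by `K` -/
def IterExt : ℕ → A → Prop
  | 0, H => IsZero H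
  | n + 1, H => ∃ (H' : A) (ι : H' ⟶ H), Mono ι ∧ Nonempty (cokernel ι ≅ K) ∧ IterExt n H'

variable {K}

theorem IterExt.of_iso {n : ℕ} {H H₂ : A} (e : H ≅ H₂) (h : IterExt K n H) : IterExt K n H₂ := by
  cases n with
  | zero => exact IsZero.of_iso h e.symm
  | succ n =>
    obtain ⟨H', ι, hι, ⟨q⟩, h'⟩ := h
    exact ⟨H', ι ≫ e.hom, inferInstance, ⟨cokernelCompIsIso ι e.hom ≪≫ q⟩, h'⟩

open Classical in
/-- prepend a step -/
theorem IterExt.of_shortExact {n : ℕ} :
    ∀ {S : ShortComplex A}, S.ShortExact → (S.X₁ ≅ K) → IterExt K n S.X₃ → IterExt K (n + 1) S.X₂ := by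
  induction n with
  | zero =>
    intro S hS eK hC
    have : Mono S.f := hS.mono_f
    have : Epi S.f := hS.exact.epi_f (IsZero.eq_of_tgt hC _ _)
    have : IsIso S.f := isIso_of_mono_of_epi S.f
    refine ⟨0, 0, ⟨fun _ _ _ => (isZero_zero A).eq_of_tgt _ _⟩, ⟨?_⟩, isZero_zero A⟩
    exact cokernelZeroIsoTarget ≪≫ (asIso S.f).symm ≪≫ eK
  | succ n ih =>
    intro S hS eK hC
    obtain ⟨C', ι, hι, ⟨q⟩, hC'⟩ := hC
    have : Epi S.g := hS.epi_g
    have : Mono S.f := hS.mono_f
    let S' : ShortComplex A := ShortComplex.mk (pullback.lift S.f 0 (by rw [S.zero, zero_comp]))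
      (pullback.snd S.g ι) (pullback.lift_snd _ _ _)
    have hf' : Mono S'.f := mono_of_mono_fac (pullback.lift_fst S.f 0 (by rw [S.zero, zero_comp]))
    have hs : Epi S'.g := Abelian.epi_pullback_of_epi_f S.g ι
    have hk : IsLimit (KernelFork.ofι S'.f S'.zero) := KernelFork.IsLimit.ofι' _ _ fun {W} k hk => by
      have h0 : (k ≫ pullback.fst S.g ι) ≫ S.g = 0 := by
        have : k ≫ pullback.snd S.g ι = 0 := hk
        rw [Category.assoc, pullback.condition, reassoc_of% this, zero_comp]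
      refine ⟨hS.fIsKernel.lift (KernelFork.ofι _ h0), pullback.hom_ext ?_ ?_⟩
      · exact (Category.assoc _ _ _).trans ((congrArg (hS.fIsKernel.lift (KernelFork.ofι _ h0) ≫ ·)
          (pullback.lift_fst _ _ _)).trans (Fork.IsLimit.lift_ι hS.fIsKernel))
      · have : k ≫ pullback.snd S.g ι = 0 := hk
        rw [this, Category.assoc, pullback.lift_snd, comp_zero]
    have hS' : S'.ShortExact :=
      { exact := ShortComplex.exact_of_f_is_kernel S' hk
        mono_f := hf'
        epi_g := hs }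
    refine ⟨pullback S.g ι, pullback.fst S.g ι, inferInstance, ⟨?_ ≪≫ q⟩, ih hS' eK hC'⟩
    let T : ShortComplex A := ShortComplex.mk (pullback.fst S.g ι) (S.g ≫ cokernel.π ι)
      (by rw [pullback.condition_assoc, cokernel.condition, comp_zero])
    have hk2 : IsLimit (KernelFork.ofι T.f T.zero) := KernelFork.IsLimit.ofι' _ _ fun {W} k hk => by
      have h0 : (k ≫ S.g) ≫ cokernel.π ι = 0 := (Category.assoc _ _ _).trans hk
      exact ⟨pullback.lift k (Abelian.monoLift ι (k ≫ S.g) h0) (Abelian.monoLift_comp ι _ h0).symm,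
        pullback.lift_fst _ _ _⟩
    have hT : T.ShortExact :=
      { exact := ShortComplex.exact_of_f_is_kernel T hk2
        mono_f := inferInstanceAs (Mono (pullback.fst S.g ι))
        epi_g := epi_comp _ _ }
    exact (cokernelIsCokernel _).coconePointUniqueUpToIso hT.gIsCokernel

/-- from iterated extensions to filtrations -/
theorem IterExt.exists_seq {n : ℕ} : ∀ {H : A}, IterExt K n H →
    ∃ (G : ℕ → A) (φ : ∀ i, G i ⟶ G (i + 1)),
      IsZero (G 0) ∧ Nonempty (G n ≅ H) ∧ ∀ i, i < n → Mono (φ i) ∧ Nonempty (cokernel (φ i) ≅ K) := by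
  induction n with
  | zero =>
    intro H h
    exact ⟨fun _ => H, fun _ => 𝟙 H, h, ⟨Iso.refl _⟩, fun i hi => absurd hi (Nat.not_lt_zero i)⟩
  | succ n ih =>
    intro H ⟨H', ι, hι, ⟨q⟩, h'⟩
    obtain ⟨G, φ, h0, ⟨e⟩, hφ⟩ := ih h'
    let G' : ℕ → A := fun i => if i ≤ n then G i else H
    have e1 : ∀ i, i ≤ n → G' i = G i := fun i hi => if_pos hi
    have e2 : ∀ i, ¬ i ≤ n → G' i = H := fun i hi => if_neg hi
    let φ' : ∀ i, G' i ⟶ G' (i + 1) := fun i =>
      if h1 : i + 1 ≤ n then eqToHom (e1 i (by omega)) ≫ φ i ≫ eqToHom (e1 (i + 1) h1).symm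
      else if h2 : i = n then
        eqToHom (e1 i (by omega)) ≫ eqToHom (congrArg G h2) ≫ e.hom ≫ ι ≫ eqToHom (e2 (i + 1) h1).symm
      else 0
    refine ⟨G', φ', by rw [e1 0 (Nat.zero_le n)]; exact h0, ⟨eqToIso (e2 (n + 1) (by omega))⟩, fun i hi => ?_⟩
    by_cases h1 : i + 1 ≤ n
    · have hφ' : φ' i = eqToHom (e1 i (by omega)) ≫ φ i ≫ eqToHom (e1 (i + 1) h1).symm := dif_pos h1
      obtain ⟨hm, ⟨c⟩⟩ := hφ i (by omega)
      rw [hφ']
      exact ⟨inferInstance, ⟨cokernelEpiComp _ _ ≪≫ cokernelCompIsIso _ _ ≪≫ c⟩⟩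
    · have h2 : i = n := by omega
      have hφ' : φ' i = eqToHom (e1 i (by omega)) ≫ eqToHom (congrArg G h2) ≫ e.hom ≫ ι ≫
          eqToHom (e2 (i + 1) h1).symm := (dif_neg h1).trans (dif_pos h2)
      rw [hφ']
      exact ⟨inferInstance, ⟨cokernelEpiComp _ _ ≪≫ cokernelEpiComp _ _ ≪≫ cokernelEpiComp _ _ ≪≫
        cokernelCompIsIso _ _ ≪≫ q⟩⟩

end Groth.Agent.EtPrimeFilt11
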